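import Groth.Agent.CommAlgDim.Regular
import Groth.Agent.CohenLib.RegularField
import Groth.Agent.S5802

/-!
Powers of a prime with regular quotient in a regular ring, and associated primes of principal ideals.
-/

set_option autoImplicit false
universe u
open IsLocalRing MvPolynomial

namespace Groth.Agent.DiagPowLib

theorem eval_coeff_step {R : Type u} [CommRing R] (J : Ideal R) [J.IsPrime] {c : ℕ} (f : Fin c → R)
    (hf : CAlgX.IsQuasiRegular f) (hJ : Ideal.span (Set.range f) = J) {b : R} (hb : b ∉ J) :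
    ∀ (l : ℕ) (x : R), b * x ∈ J ^ l → x ∈ J ^ l := by
  intro l
  induction l with
  | zero => intro x _; simp
  | succ m ih =>
    intro x hx
    have hxm := ih x (Ideal.pow_le_pow_right (Nat.le_succ m) hx)
    subst hJ
    have hex : ∀ (m : ℕ) (x : R), x ∈ Ideal.span (Set.range f) ^ m →
        ∃ P : MvPolynomial (Fin c) R, P.IsHomogeneous m ∧ eval f P = x := by
      intro m
      induction m with
      | zero => exact fun x _ => ⟨C x, isHomogeneous_C _ _, eval_C x⟩
      | succ m ihm =>
        intro x hx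
        rw [pow_succ] at hx
        induction hx using Submodule.mul_induction_on' with
        | mem_mul_mem y hy z hz =>
          obtain ⟨P, hP, rfl⟩ := ihm y hy
          rw [Ideal.mem_span_range_iff_exists_fun] at hz
          obtain ⟨a, rfl⟩ := hz
          refine ⟨P * ∑ i, C (a i) * X i, hP.mul (IsHomogeneous.sum _ _ _ fun i _ => ?_), ?_⟩
          · exact (isHomogeneous_X R i).C_mul (a i)
          · simp
        | add y _ z _ hy' hz' =>
          obtain ⟨P, hP, rfl⟩ := hy'
          obtain ⟨Q, hQ, rfl⟩ := hz'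
          exact ⟨P + Q, hP.add hQ, map_add _ _ _⟩
    obtain ⟨P, hP, rfl⟩ := hex m x hxm
    have hc : ∀ d, P.coeff d ∈ Ideal.span (Set.range f) := fun d => by
      have := hf m (C b * P) (hP.C_mul b) (by rw [map_mul, eval_C]; exact hx) d
      rw [coeff_C_mul] at this
      exact (Ideal.IsPrime.mem_or_mem inferInstance this).resolve_left hb
    rw [eval_eq, pow_succ']
    refine Ideal.sum_mem _ fun d hd => Ideal.mul_mem_mul (hc d) ?_
    have hdeg : d.sum (fun _ n => n) = m := by
      have := hP (mem_support_iff.1 hd)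
      simpa [Finsupp.weight_apply] using this
    rw [← hdeg, Finsupp.sum, ← Finset.prod_pow_eq_pow_sum]
    have := Ideal.prod_mem_prod (s := d.support) (I := fun i => Ideal.span (Set.range f) ^ d i)
      (x := fun i => f i ^ d i) fun i _ => Ideal.pow_mem_pow (Ideal.subset_span (Set.mem_range_self i)) _
    exact this

theorem isRegularLocalRing_quotient_localization {R : Type u} [CommRing R] [IsNoetherianRing R] (I : Ideal R)
    [IsRegularRing (R ⧸ I)] (Q : Ideal R) [Q.IsPrime] (hIQ : I ≤ Q) :
    IsRegularLocalRing (Localization.AtPrime Q ⧸ I.map (algebraMap R (Localization.AtPrime Q))) := by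
  let μ : R →+* R ⧸ I := Ideal.Quotient.mk I
  have hμ : Function.Surjective μ := Ideal.Quotient.mk_surjective
  have hker : RingHom.ker μ ≤ Q := by rw [Ideal.mk_ker]; exact hIQ
  have hcomap : (Q.map μ).comap μ = Q := by
    rw [Ideal.comap_map_of_surjective μ hμ, sup_eq_left.2 (by rwa [← RingHom.ker_eq_comap_bot])]
  have hq : (Q.map μ).IsPrime := Ideal.map_isPrime_of_surjective hμ hker
  let φ := Localization.localRingHom Q (Q.map μ) μ hcomap.symm
  have hφ : Function.Surjective φ := by
    intro y
    obtain ⟨a, s, rfl⟩ := IsLocalization.exists_mk'_eq (Q.map μ).primeCompl y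
    obtain ⟨a', rfl⟩ := hμ a
    obtain ⟨s', hs'⟩ := hμ s
    have hs'Q : s' ∈ Q.primeCompl := fun h => s.2 (hs' ▸ Ideal.mem_map_of_mem μ h)
    refine ⟨IsLocalization.mk' _ a' ⟨s', hs'Q⟩, ?_⟩
    rw [Localization.localRingHom_mk']
    congr 1
    exact Subtype.ext hs'
  have hkerφ : RingHom.ker φ = I.map (algebraMap R (Localization.AtPrime Q)) := by
    refine le_antisymm (fun y hy => ?_) (Ideal.map_le_iff_le_comap.2 fun z hz => ?_)
    · obtain ⟨a, s, rfl⟩ := IsLocalization.exists_mk'_eq Q.primeCompl y
      rw [RingHom.mem_ker, Localization.localRingHom_mk', IsLocalization.mk'_eq_zero_iff] at hy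
      obtain ⟨⟨t, ht⟩, hta⟩ := hy
      obtain ⟨t', rfl⟩ := hμ t
      rw [← map_mul] at hta
      refine (IsLocalization.mk'_mem_map_algebraMap_iff Q.primeCompl _ _ _ _).2
        ⟨t', fun h => ht (Ideal.mem_map_of_mem μ h), Ideal.Quotient.eq_zero_iff_mem.1 hta⟩
    · rw [Ideal.mem_comap, RingHom.mem_ker, Localization.localRingHom_to_map,
        Ideal.Quotient.eq_zero_iff_mem.2 hz, map_zero]
  haveI : IsRegularLocalRing (Localization.AtPrime (Q.map μ)) := IsRegularRing.isRegularLocalRing_localization _
  exact IsRegularLocalRing.of_ringEquiv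
    ((Ideal.quotEquivOfEq hkerφ.symm).trans (RingHom.quotientKerEquivOfSurjective hφ)).symm

/-- Powers of a prime with regular quotient in a regular ring are primary. -/
theorem mem_pow_of_mul_mem {R : Type u} [CommRing R] [IsNoetherianRing R] [IsRegularRing R] (I : Ideal R)
    [I.IsPrime] [IsRegularRing (R ⧸ I)] {b : R} (hb : b ∉ I) (l : ℕ) (x : R) (h : b * x ∈ I ^ l) : x ∈ I ^ l := by
  refine Ideal.mem_of_localization_maximal fun Q _ => ?_
  rw [Ideal.map_pow]
  by_cases hIQ : I ≤ Q
  · haveI : IsRegularLocalRing (Localization.AtPrime Q) := IsRegularRing.isRegularLocalRing_localization Q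
    haveI := isRegularLocalRing_quotient_localization I Q hIQ
    obtain ⟨rs, hrs, hJ⟩ := CommAlgDim.exists_isRegular_of_regular_quotient (R := Localization.AtPrime Q)
      (J := I.map (algebraMap R (Localization.AtPrime Q)))
    have hdisj : Disjoint (Q.primeCompl : Set R) (I : Set R) :=
      Set.disjoint_left.2 fun a ha haI => ha (hIQ haI)
    haveI : (I.map (algebraMap R (Localization.AtPrime Q))).IsPrime :=
      IsLocalization.isPrime_of_isPrime_disjoint Q.primeCompl _ I inferInstance hdisj
    refine eval_coeff_step (b := algebraMap R _ b) _ (fun i : Fin rs.length => rs.get i)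
      (Groth.Agent.S5802.result _ _ _ (by rw [List.ofFn_get]; exact hrs.toIsWeaklyRegular)) ?_ ?_ l _
      (by rw [← map_mul, ← Ideal.map_pow]; exact Ideal.mem_map_of_mem _ h)
    · rw [← hJ, Ideal.ofList]
      exact congrArg _ (Set.ext fun y => List.mem_iff_get.symm)
    · intro hb'
      rw [← Ideal.mem_comap, ← Ideal.under_def, IsLocalization.comap_map_of_isPrime_disjoint Q.primeCompl _ inferInstance hdisj] at hb'
      exact hb hb'
  · obtain ⟨t, htI, htQ⟩ := SetLike.not_le_iff_exists.1 hIQ
    rw [Ideal.eq_top_of_isUnit_mem _ (Ideal.mem_map_of_mem _ htI)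
      (IsLocalization.map_units (Localization.AtPrime Q) (⟨t, htQ⟩ : Q.primeCompl)), Ideal.top_pow]
    exact Submodule.mem_top

/-- A prime minimal over nothing but containing a nonzero prime equals it, if its localisation is principal. -/
theorem eq_of_principal {R : Type u} [CommRing R] [IsDomain R] [IsNoetherianRing R] (Q I : Ideal R) [Q.IsPrime] [I.IsPrime]
    (hIQ : I ≤ Q) (hI : I ≠ ⊥) (x : Localization.AtPrime Q)
    (hx : maximalIdeal (Localization.AtPrime Q) = Ideal.span {x}) : I = Q := by
  refine le_antisymm hIQ fun q hq => ?_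
  by_contra hqI
  have hdisj : Disjoint (Q.primeCompl : Set R) (I : Set R) :=
    Set.disjoint_left.2 fun a ha haI => ha (hIQ haI)
  have hP := IsLocalization.isPrime_of_isPrime_disjoint Q.primeCompl (Localization.AtPrime Q) I inferInstance hdisj
  have hcomap := IsLocalization.comap_map_of_isPrime_disjoint Q.primeCompl (Localization.AtPrime Q)
    (inferInstance : I.IsPrime) hdisj
  set P := I.map (algebraMap R (Localization.AtPrime Q))
  have hxP : x ∉ P := fun hxP => by
    refine hqI ?_
    rw [← hcomap, Ideal.under_def, Ideal.mem_comap]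
    have h : algebraMap R (Localization.AtPrime Q) q ∈ maximalIdeal _ :=
      (IsLocalization.AtPrime.to_map_mem_maximal_iff _ Q q).2 hq
    rw [hx, Ideal.mem_span_singleton] at h
    obtain ⟨r, hr⟩ := h
    rw [hr]
    exact P.mul_mem_right r hxP
  have hPle : P ≤ Ideal.span {x} * P := fun p hp => by
    have h : p ∈ maximalIdeal (Localization.AtPrime Q) := le_maximalIdeal hP.ne_top hp
    rw [hx, Ideal.mem_span_singleton] at h
    obtain ⟨r, rfl⟩ := h
    exact Ideal.mul_mem_mul (Ideal.mem_span_singleton_self x) ((hP.mem_or_mem hp).resolve_left hxP)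
  obtain ⟨a, haI, ha0⟩ := Submodule.exists_mem_ne_zero_of_ne_bot hI
  refine ha0 (IsLocalization.injective (Localization.AtPrime Q) Q.primeCompl_le_nonZeroDivisors ?_)
  have hbot : P = ⊥ := by
    refine Submodule.eq_bot_of_le_smul_of_le_jacobson_bot (Ideal.span {x}) P (IsNoetherian.noetherian P)
      (by rw [smul_eq_mul]; exact hPle) ?_
    rw [IsLocalRing.jacobson_eq_maximalIdeal ⊥ bot_ne_top, hx]
  rw [map_zero, ← Ideal.mem_bot, ← hbot]
  exact Ideal.mem_map_of_mem _ haI

/-- In a regular domain an associated prime of a principal ideal is locally principal. -/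
theorem principal_of_associated {R : Type u} [CommRing R] [IsDomain R] [IsNoetherianRing R] [IsRegularRing R]
    {a : R} (ha : a ≠ 0) (Q : Ideal R) [Q.IsPrime] (hQ : Q ∈ associatedPrimes R (R ⧸ Ideal.span {a})) :
    ∃ x : Localization.AtPrime Q, maximalIdeal (Localization.AtPrime Q) = Ideal.span {x} := by
  haveI : IsRegularLocalRing (Localization.AtPrime Q) := IsRegularRing.isRegularLocalRing_localization Q
  haveI := CommAlgDim.isDomain_of_isRegularLocalRing (Localization.AtPrime Q)
  obtain ⟨-, v, hv⟩ := (isAssociatedPrime_iff (R := R) (I := Q) (M := R ⧸ Ideal.span {a})).1 hQ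
  obtain ⟨c, rfl⟩ := Ideal.Quotient.mk_surjective v
  have hmem : ∀ r : R, r ∈ Q ↔ r * c ∈ Ideal.span {a} := fun r => by
    rw [hv, Submodule.mem_colon_singleton, Submodule.mem_bot, ← Ideal.Quotient.eq_zero_iff_mem]
    rfl
  set α := algebraMap R (Localization.AtPrime Q) a
  set γ := algebraMap R (Localization.AtPrime Q) c
  have hγ : γ ∉ Ideal.span {α} := fun h => by
    rw [← Set.image_singleton, ← Ideal.map_span,
      IsLocalization.algebraMap_mem_map_algebraMap_iff Q.primeCompl] at h
    obtain ⟨t, ht, htc⟩ := h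
    exact ht ((hmem t).2 htc)
  have hm : ∀ y ∈ maximalIdeal (Localization.AtPrime Q), y * γ ∈ Ideal.span {α} := fun y hy => by
    rw [← Localization.AtPrime.map_eq_maximalIdeal] at hy
    induction hy using Submodule.span_induction with
    | mem z hz =>
      obtain ⟨r, hr, rfl⟩ := hz
      rw [← map_mul, ← Set.image_singleton, ← Ideal.map_span]
      exact Ideal.mem_map_of_mem _ ((hmem r).1 hr)
    | zero => simp
    | add z w _ _ hz hw => rw [add_mul]; exact add_mem hz hw
    | smul t z _ hz => rw [smul_eq_mul, mul_assoc]; exact Ideal.mul_mem_left _ t hz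
  have hprime : ∀ z ∈ maximalIdeal (Localization.AtPrime Q), z ∉ maximalIdeal (Localization.AtPrime Q) ^ 2 →
      Prime z := fun z hz hz2 => by
    haveI := CommAlgDim.isRegularLocalRing_quotient_singleton hz hz2
    haveI := CommAlgDim.isDomain_of_isRegularLocalRing (Localization.AtPrime Q ⧸ Ideal.span {z})
    exact (Ideal.span_singleton_prime (fun h => hz2 (by rw [h]; exact zero_mem _))).1 ((Ideal.Quotient.isDomain_iff_prime _).1 inferInstance)
  have hdvd : ∀ z ∈ maximalIdeal (Localization.AtPrime Q), z ∉ maximalIdeal (Localization.AtPrime Q) ^ 2 → z ∣ α :=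
    fun z hz hz2 => by
      by_contra hn
      obtain ⟨d, hd⟩ := Ideal.mem_span_singleton.1 (hm z hz)
      obtain ⟨d', rfl⟩ := ((hprime z hz hz2).dvd_or_dvd (Dvd.intro γ hd)).resolve_left hn
      refine hγ (Ideal.mem_span_singleton.2 ⟨d', mul_left_cancel₀ (hprime z hz hz2).ne_zero ?_⟩)
      rw [hd]; ring
  have hQ0 : maximalIdeal (Localization.AtPrime Q) ≠ ⊥ := fun h => by
    have haQ : a ∈ Q := (hmem a).2 (Ideal.mul_mem_right _ _ (Ideal.mem_span_singleton_self a))
    have : α ∈ maximalIdeal (Localization.AtPrime Q) := (IsLocalization.AtPrime.to_map_mem_maximal_iff _ Q a).2 haQ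
    rw [h, Ideal.mem_bot] at this
    exact ha (IsLocalization.injective (Localization.AtPrime Q) Q.primeCompl_le_nonZeroDivisors
      (this.trans (map_zero _).symm))
  obtain ⟨x, hx, hx2, -⟩ := CommAlgDim.exists_mem_notMem_sq (R := Localization.AtPrime Q) Set.finite_empty
    (by simp) (by simp) hQ0
  refine ⟨x, le_antisymm (fun y hy => ?_) ((Ideal.span_singleton_le_iff_mem _).2 hx)⟩
  by_contra hyx
  obtain ⟨y, hy, hyx, hy2⟩ : ∃ y ∈ maximalIdeal (Localization.AtPrime Q), y ∉ Ideal.span {x} ∧
      y ∉ maximalIdeal (Localization.AtPrime Q) ^ 2 := by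
    by_cases h2 : y ∈ maximalIdeal (Localization.AtPrime Q) ^ 2
    · refine ⟨x + y, add_mem hx hy, fun h => hyx ?_, fun h => hx2 ?_⟩
      · simpa using sub_mem h (Ideal.mem_span_singleton_self x)
      · simpa using sub_mem h h2
    · exact ⟨y, hy, hyx, h2⟩
  -- infinitely many primes `y + x ^ (i + 2)` divide `α`
  let z : ℕ → Localization.AtPrime Q := fun i => y + x ^ (i + 2)
  have hz1 : ∀ i, z i ∈ maximalIdeal (Localization.AtPrime Q) := fun i =>
    add_mem hy (Ideal.pow_mem_of_mem _ hx _ (by omega))
  have hz2 : ∀ i, z i ∉ maximalIdeal (Localization.AtPrime Q) ^ 2 := fun i h => hy2 (by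
    have h' : x ^ (i + 2) ∈ maximalIdeal (Localization.AtPrime Q) ^ 2 :=
      Ideal.pow_le_pow_right (by omega) (Ideal.pow_mem_pow hx _)
    simpa [z] using sub_mem h h')
  have hα0 : α ≠ 0 := fun h => ha (IsLocalization.injective (Localization.AtPrime Q)
    Q.primeCompl_le_nonZeroDivisors (h.trans (map_zero _).symm))
  have hP : ∀ i, (Ideal.span {z i}) ∈ (Ideal.span {α}).minimalPrimes := fun i => by
    haveI hzi := (Ideal.span_singleton_prime (hprime _ (hz1 i) (hz2 i)).ne_zero).2 (hprime _ (hz1 i) (hz2 i))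
    refine ⟨⟨hzi, (Ideal.span_singleton_le_span_singleton).2 (hdvd _ (hz1 i) (hz2 i))⟩, fun P hP hPle => ?_⟩
    rw [Ideal.span_singleton_le_iff_mem]
    by_contra hzP
    have hle : P ≤ Ideal.span {z i} • P := fun p hp => by
      obtain ⟨r, rfl⟩ := Ideal.mem_span_singleton.1 (hPle hp)
      rw [smul_eq_mul]
      exact Ideal.mul_mem_mul (Ideal.mem_span_singleton_self _) ((hP.1.mem_or_mem hp).resolve_left hzP)
    have hbot := Submodule.eq_bot_of_le_smul_of_le_jacobson_bot _ P (IsNoetherian.noetherian P) hle (by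
      rw [IsLocalRing.jacobson_eq_maximalIdeal ⊥ bot_ne_top, Ideal.span_singleton_le_iff_mem]
      exact hz1 i)
    exact hα0 ((Ideal.mem_bot).1 (hbot ▸ hP.2 (Ideal.mem_span_singleton_self α)))
  have hne : ∀ i j, i < j → Ideal.span {z i} ≠ Ideal.span {z j} := fun i j hij h => by
    have hp := hprime _ (hz1 i) (hz2 i)
    have hd : z i ∣ x ^ (i + 2) * (1 - x ^ (j - i)) := by
      have h1 : z i ∣ z j := Ideal.mem_span_singleton.1 (h ▸ Ideal.mem_span_singleton_self (z j))
      have h2 := dvd_sub (dvd_refl (z i)) h1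
      have he : z i - z j = x ^ (i + 2) * (1 - x ^ (j - i)) := by
        simp only [z]
        rw [mul_sub, mul_one, ← pow_add, show i + 2 + (j - i) = j + 2 by omega]; ring
      rwa [he] at h2
    have hu : IsUnit (1 - x ^ (j - i)) :=
      IsLocalRing.isUnit_one_sub_self_of_mem_nonunits _ (Ideal.pow_mem_of_mem _ hx _ (by omega))
    obtain ⟨u, hu'⟩ := hp.dvd_of_dvd_pow (hu.dvd_mul_right.1 hd)
    by_cases hu2 : IsUnit u
    · apply hyx
      have hzx : z i ∈ Ideal.span {x} := Ideal.mem_span_singleton.2 ⟨↑hu2.unit⁻¹, by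
        rw [hu', mul_assoc, IsUnit.mul_val_inv, mul_one]⟩
      simpa [z] using sub_mem hzx (Ideal.pow_mem_of_mem _ (Ideal.mem_span_singleton_self x) (i + 2) (by omega))
    · exact hx2 (by rw [hu', sq]; exact Ideal.mul_mem_mul (hz1 i) ((mem_maximalIdeal u).2 hu2))
  refine Set.infinite_range_of_injective (f := fun i => Ideal.span {z i}) (fun i j h => ?_)
    ((Ideal.finite_minimalPrimes_of_isNoetherianRing _ _).subset (Set.range_subset_iff.2 hP))
  rcases lt_trichotomy i j with hl | hl | hl
  · exact absurd h (hne i j hl)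
  · exact hl
  · exact absurd h.symm (hne j i hl)

end Groth.Agent.DiagPowLib
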